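import Groth.Agent.FComplLib.Thicken
import Groth.Agent.FComplLib.SmoothLevel
import Groth.Agent.AlgSpLib.NilLift
import Groth.Prelude.Def_ArtFun4
import Mathlib.AlgebraicGeometry.Morphisms.FinitePresentation

/-!
# Deformations of smooth schemes over Artinian rings are smooth and their points lift
-/

set_option autoImplicit false

universe u

open CategoryTheory CategoryTheory.Limits AlgebraicGeometry

namespace Groth.Agent.DefSm

open ArtFun ArtFun.Art

variable {Λ k : Type u} [CommRing Λ] [Field k] [Algebra Λ k]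

instance isClosedImmersion_specRes (A : Art Λ k) : IsClosedImmersion (specRes A) :=
  IsClosedImmersion.spec_of_surjective _ A.res_surjective

theorem eq_closedPoint (A : Art Λ k) (z : ↥(spec A)) : z = IsLocalRing.closedPoint A.carrier :=
  PrimeSpectrum.ext (IsLocalRing.eq_maximalIdeal inferInstance)

instance subsingleton_spec (A : Art Λ k) : Subsingleton ↥(spec A) :=
  ⟨fun a b => (eq_closedPoint A a).trans (eq_closedPoint A b).symm⟩

instance surjective_specRes (A : Art Λ k) : Surjective (specRes A) :=
  ⟨fun z => ⟨IsLocalRing.closedPoint k, Subsingleton.elim _ _⟩⟩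

instance isLocallyNoetherian_spec (A : Art Λ k) : IsLocallyNoetherian (spec A) :=
  isLocallyNoetherian_Spec.mpr (inferInstanceAs (IsNoetherianRing A.carrier))

variable {X : Scheme.{u}} {x : X ⟶ specPt k} {A : Art Λ k}

theorem locallyOfFinitePresentation_f [LocallyOfFiniteType x] (ξ : ArtFun.DefSch X x A) :
    LocallyOfFinitePresentation ξ.f := by
  have := FComplLib.locallyOfFiniteType_of_thickening ξ.isPullback
  rw [HasRingHomProperty.iff_appLE (P := @LocallyOfFinitePresentation)]
  intro U V e
  have hU : IsNoetherianRing Γ(spec A, U) := IsLocallyNoetherian.component_noetherian U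
  exact (RingHom.FinitePresentation.of_finiteType).1
    (HasRingHomProperty.appLE @LocallyOfFiniteType ξ.f inferInstance U V e)

/-- The structure morphism of a deformation of a smooth scheme is smooth. -/
theorem smooth_f [AlgebraicGeometry.Smooth x] (ξ : ArtFun.DefSch X x A) :
    AlgebraicGeometry.Smooth ξ.f := by
  have := ξ.flat
  have := locallyOfFinitePresentation_f ξ
  exact FComplLib.smooth_of_thickening ξ.isPullback

/-- A point of a smooth scheme lifts to a section of every deformation of it. -/
theorem exists_sect [AlgebraicGeometry.Smooth x] (ξ : ArtFun.DefSch X x A) (p : specPt k ⟶ X)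
    (hp : p ≫ x = 𝟙 _) :
    ∃ s : spec A ⟶ ξ.total, s ≫ ξ.f = 𝟙 _ ∧ p ≫ ξ.i = specRes A ≫ s := by
  have := smooth_f ξ
  obtain ⟨W', l, hW, h1, h2⟩ := AlgSpLib.exists_local_lift_thick (specRes A) ξ.f (p ≫ ξ.i) (𝟙 _)
    (by rw [Category.comp_id, Category.assoc, ξ.i_f, ← Category.assoc, hp, Category.id_comp])
    (IsLocalRing.closedPoint k)
  obtain rfl : W' = ⊤ := eq_top_iff.mpr fun z _ => (Subsingleton.elim z _) ▸ hW
  have i1 : IsIso (⊤ : (spec A).Opens).ι := inferInstanceAs (IsIso (spec A).topIso.hom)
  have i2 : IsIso (specRes A ⁻¹ᵁ ⊤).ι :=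
    inferInstanceAs (IsIso (Spec (CommRingCat.of k)).topIso.hom)
  refine ⟨inv (⊤ : (spec A).Opens).ι ≫ l, by
    rw [Category.assoc, h2, Category.comp_id, IsIso.inv_hom_id], ?_⟩
  rw [← cancel_epi (specRes A ⁻¹ᵁ ⊤).ι, ← h1, ← morphismRestrict_ι_assoc,
    IsIso.hom_inv_id_assoc]

end Groth.Agent.DefSm
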